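import Mathlib
import Groth.Prelude.Def_MoreMor
import Groth.Agent.Lib.Helper1.ThickAff6

/-! # Affine stratifications: topological consequences. -/

universe u
open CategoryTheory Limits AlgebraicGeometry TopologicalSpace Opposite

namespace Groth.Agent.LD.AS

variable {X : Scheme.{u}}

/-- an affine immersion from an affine scheme whose image is an open set: the open is affine and
its inclusion is an affine morphism. -/
theorem isAffineOpen_and_isAffineHom_of_range {Z : Scheme.{u}} (ι : Z ⟶ X) [IsImmersion ι]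
    [IsAffine Z] [IsAffineHom ι] (U : X.Opens) (h : Set.range ι = (U : Set X)) :
    IsAffineOpen U ∧ IsAffineHom U.ι := by
  have hsub : Set.range ι ⊆ Set.range U.ι := by rw [Scheme.Opens.range_ι, h]
  let t : Z ⟶ U := IsOpenImmersion.lift U.ι ι hsub
  have ht : t ≫ U.ι = ι := IsOpenImmersion.lift_fac _ _ _
  haveI : IsPreimmersion (t ≫ U.ι) := by rw [ht]; infer_instance
  haveI : IsPreimmersion t := .of_comp t U.ι
  have hsurj : Function.Surjective t := by
    intro y
    have hy : (U.ι y : X) ∈ Set.range ι := by rw [h]; exact y.2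
    obtain ⟨z, hz⟩ := hy
    refine ⟨z, ?_⟩
    apply U.ι.isEmbedding.injective
    rw [← Scheme.Hom.comp_apply, ht]
    exact hz
  haveI : IsClosedImmersion t :=
    .of_isPreimmersion _ (by rw [hsurj.range_eq]; exact isClosed_univ)
  haveI hU : IsAffine (U : Scheme.{u}) := Groth.Agent.H1.ThickAff.isAffine_of_thickening t hsurj
  refine ⟨hU, ⟨fun V hV => ?_⟩⟩
  apply Groth.Agent.H1.ThickAff.isAffineOpen_of_preimage t hsurj
  rw [← Scheme.Hom.comp_preimage, ht]
  exact hV.preimage ι

theorem compactSpace_of_hasAffineStratification (n : ℕ)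
    (hX : MoreMor.HasAffineStratification X n) : CompactSpace X := by
  obtain ⟨s, -, hs⟩ := hX
  rw [← isCompact_univ_iff]
  have h : (Set.univ : Set X) = ⋃ i : Fin (n + 1), {x : X | s x = i} := by
    ext x
    simp
  rw [h]
  refine isCompact_iUnion fun i => ?_
  obtain ⟨Z, ι, -, hZ, -, hr⟩ := hs i
  rw [← hr]
  exact isCompact_range ι.continuous

theorem quasiSeparatedSpace_of_hasAffineStratification (n : ℕ)
    (hX : MoreMor.HasAffineStratification X n) : QuasiSeparatedSpace X := by
  obtain ⟨s, -, hs⟩ := hX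
  rw [quasiSeparatedSpace_iff_forall_affineOpens]
  intro U V
  have h : ((U : X.Opens) : Set X) ∩ (V : X.Opens) =
      ⋃ i : Fin (n + 1), (((U : X.Opens) : Set X) ∩ (V : X.Opens)) ∩ {x : X | s x = i} := by
    ext x
    simp
  rw [h]
  refine isCompact_iUnion fun i => ?_
  obtain ⟨Z, ι, -, hZ, hι, hr⟩ := hs i
  haveI := hZ
  haveI := hι
  rw [← hr, ← Set.image_preimage_eq_inter_range]
  refine IsCompact.image ?_ ι.continuous
  have h1 : IsCompact ((ι ⁻¹ᵁ U.1 : Z.Opens) : Set Z) := (U.2.preimage ι).isCompact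
  have h2 : IsCompact ((ι ⁻¹ᵁ V.1 : Z.Opens) : Set Z) := (V.2.preimage ι).isCompact
  exact h1.inter_of_isOpen h2 (ι ⁻¹ᵁ U.1).2 (ι ⁻¹ᵁ V.1).2

end Groth.Agent.LD.AS
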