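import Groth.Agent.Lib.Lead.AS.Closed

/-! # Cohomology of quasi-coherent modules vanishing on an open set: dévissage. -/

universe u
open CategoryTheory Limits AlgebraicGeometry TopologicalSpace Opposite Abelian

namespace Groth.Agent.LD.AS
open Groth.Agent.LD.QC Groth.Agent.LD.SC

variable {X : Scheme.{u}}

lemma subsingleton_HH_of_iso' {M N : X.Modules} (e : M ≅ N) (q : ℕ)
    (h : Subsingleton (Coh.HH X M q)) : Subsingleton (Coh.HH X N q) :=
  Groth.Agent.LD.QCQS.subsingleton_H_of_iso
    ((SheafOfModules.toSheaf X.ringCatSheaf).mapIso e) q h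

lemma subsingleton_ext_of_HH (M : X.Modules) (p : ℕ) (h : Subsingleton (Coh.HH X M p)) :
    Subsingleton (Ext (ZU (JX X) (⊤ : X.Opens)) (Coh.toAb M) p) :=
  (HEquiv (J := JX X) CategoryTheory.Limits.isTerminalTop (Coh.toAb M) p).symm.toEquiv.subsingleton

lemma subsingleton_HH_of_ext (M : X.Modules) (p : ℕ)
    (h : Subsingleton (Ext (ZU (JX X) (⊤ : X.Opens)) (Coh.toAb M) p)) :
    Subsingleton (Coh.HH X M p) :=
  (HEquiv (J := JX X) CategoryTheory.Limits.isTerminalTop (Coh.toAb M) p).toEquiv.subsingleton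

/-- every quasi-coherent module vanishing on `U` is a quotient of a direct sum of finite type
quasi-coherent modules vanishing on `U`. -/
theorem exists_epi_sigma_ft [CompactSpace X] [QuasiSeparatedSpace X] (U : X.Opens)
    (M : X.Modules) (hM : M.IsQuasicoherent) (h : VanishOn U M) :
    ∃ (J : Type u) (G : J → X.Modules)
      (_ : ∀ j, (G j).IsQuasicoherent ∧ (G j).IsFiniteType ∧ VanishOn U (G j))
      (π : (∐ G) ⟶ M), Epi π := by
  haveI := hM
  refine exists_epi_sigma_of_local
    (fun G : X.Modules => G.IsQuasicoherent ∧ G.IsFiniteType ∧ VanishOn U G) M ?_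
  intro V t x hx
  obtain ⟨_, ⟨U₀, hU₀, rfl⟩, hxU, hUV⟩ := X.isBasis_affineOpens.exists_subset_of_mem_open hx V.2
  have hUV' : U₀ ≤ V := hUV
  obtain ⟨G₁, i, hi, hqcG, hftG, g₁, hg₁⟩ := Groth.Agent.S9819.result M ⟨U₀, hU₀⟩
    (M.presheaf.map (homOfLE hUV').op t)
  haveI := hi
  refine ⟨1, fun _ => G₁, fun _ => ⟨hqcG, hftG, h.of_mono i⟩, fun _ => i, U₀, hUV', hxU,
    fun _ => g₁, ?_⟩
  rw [Fin.sum_univ_one]
  exact hg₁

/-- a finite type quasi-coherent module vanishing on `U` has the cohomology of a module on a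
closed subscheme missing `U`. -/
theorem subsingleton_HH_ft (U : X.Opens) (n : ℕ)
    (hT : ∀ (I : X.IdealSheafData), (I.support : Set X) ⊆ (U : Set X)ᶜ →
      ∀ (G : I.subscheme.Modules), G.IsQuasicoherent → ∀ p, n < p →
        Subsingleton (Coh.HH I.subscheme G p))
    (G : X.Modules) (hG : G.IsQuasicoherent) (hft : G.IsFiniteType) (h : VanishOn U G)
    (p : ℕ) (hp : n < p) : Subsingleton (Coh.HH X G p) := by
  haveI := hG
  let I := annIdeal G hft
  let i : I.subscheme ⟶ X := I.subschemeι
  haveI : IsIso ((Scheme.Modules.pullbackPushforwardAdjunction i).unit.app G) := by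
    rw [isIso_unit_closedImmersion_iff]
    intro U₀ a ha s
    rw [Scheme.IdealSheafData.ker_subschemeι] at ha
    exact Module.mem_annihilator.1 ha s
  haveI hqc : ((Scheme.Modules.pullback i).obj G).IsQuasicoherent := qc_pullback i G
  obtain ⟨e⟩ := Groth.Agent.S0012.result i ((Scheme.Modules.pullback i).obj G) p
  haveI := hT I (support_annIdeal_subset G hft h) _ hqc p hp
  have h1 : Subsingleton (Coh.HH X ((Coh.push i).obj ((Scheme.Modules.pullback i).obj G)) p) :=
    e.symm.toEquiv.subsingleton
  exact subsingleton_HH_of_iso'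
    (asIso ((Scheme.Modules.pullbackPushforwardAdjunction i).unit.app G)).symm p h1

/-- quasi-coherent modules vanishing on `U` have no cohomology above `n` if this holds on all
closed subschemes missing `U`. -/
theorem subsingleton_HH_of_vanishOn [CompactSpace X] [QuasiSeparatedSpace X] (U : X.Opens)
    (n : ℕ)
    (hT : ∀ (I : X.IdealSheafData), (I.support : Set X) ⊆ (U : Set X)ᶜ →
      ∀ (G : I.subscheme.Modules), G.IsQuasicoherent → ∀ p, n < p →
        Subsingleton (Coh.HH I.subscheme G p))
    (M : X.Modules) (hM : M.IsQuasicoherent) (h : VanishOn U M)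
    (p : ℕ) (hp : n < p) : Subsingleton (Coh.HH X M p) := by
  obtain ⟨d, hd⟩ := exists_cohDim_of_qcqs X
  refine subsingleton_HH_of_devissage (fun M : X.Modules => M.IsQuasicoherent ∧ VanishOn U M) n ?_ d ?_
    M ⟨hM, h⟩ p hp
  · rintro M ⟨hM, hMU⟩
    obtain ⟨J, G, hG, π, hπ⟩ := exists_epi_sigma_ft U M hM hMU
    have hqcG : (∐ G).IsQuasicoherent :=
      qc_colimit (Discrete.functor G) (fun j => (hG j.as).1)
    haveI : Mono (kernel.ι π) := inferInstance
    refine ⟨ShortComplex.mk (kernel.ι π) π (kernel.condition π), ?_, ⟨Iso.refl _⟩,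
      ⟨qc_kernel π hqcG hM, (VanishOn.sigma G fun j => (hG j).2.2).of_mono (kernel.ι π)⟩,
      fun i hi => ?_⟩
    · exact { exact := ShortComplex.exact_of_f_is_kernel _ (kernelIsKernel π)
              mono_f := inferInstanceAs (Mono (kernel.ι π))
              epi_g := hπ }
    · apply subsingleton_HH_of_ext
      apply subsingleton_ext_sigma G i
      intro j
      apply subsingleton_ext_of_HH
      exact subsingleton_HH_ft U n hT (G j) (hG j).1 (hG j).2.1 (hG j).2.2 i hi
  · rintro M ⟨hM, -⟩ i hi
    exact hd M hM i hi.le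

/-- **the inductive step**: if `U` is an affine open with affine inclusion and all closed
subschemes missing `U` have cohomological dimension at most `n`, then `X` has cohomological
dimension at most `n + 1`. -/
theorem subsingleton_HH_of_open_affine [CompactSpace X] [QuasiSeparatedSpace X] (U : X.Opens)
    (hU : IsAffineOpen U) (hUa : IsAffineHom U.ι) (n : ℕ)
    (hT : ∀ (I : X.IdealSheafData), (I.support : Set X) ⊆ (U : Set X)ᶜ →
      ∀ (G : I.subscheme.Modules), G.IsQuasicoherent → ∀ p, n < p →
        Subsingleton (Coh.HH I.subscheme G p))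
    (F : X.Modules) (hF : F.IsQuasicoherent) (p : ℕ) (hp : n + 1 < p) :
    Subsingleton (Coh.HH X F p) := by
  haveI := hF
  haveI := hUa
  obtain ⟨q, rfl⟩ : ∃ q, p = q + 1 := ⟨p - 1, by omega⟩
  set η := (Scheme.Modules.restrictAdjunction U.ι).unit.app F with hη
  haveI hqcR : (F.restrict U.ι).IsQuasicoherent := qc_restrict U.ι F
  have hqcP : ((Scheme.Modules.pushforward U.ι).obj (F.restrict U.ι)).IsQuasicoherent :=
    qc_pushforward U.ι (F.restrict U.ι)
  -- cohomology of the pushforward
  have hP : Subsingleton (Coh.HH X ((Scheme.Modules.pushforward U.ι).obj (F.restrict U.ι))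
      (q + 1)) := by
    obtain ⟨e⟩ := Groth.Agent.S0012.result U.ι (F.restrict U.ι) (q + 1)
    haveI : IsAffine (U : Scheme.{u}) := hU
    haveI : Subsingleton (Coh.HH (U : Scheme.{u}) (F.restrict U.ι) (q + 1)) :=
      subsingleton_HH_of_ext _ _
        (subsingleton_ext_of_isAffineOpen (F.restrict U.ι) q ⊤ (isAffineOpen_top _))
    exact e.symm.toEquiv.subsingleton
  -- the two short exact sequences
  have hK : VanishOn U (kernel η) := vanishOn_kernel_unit U F
  have hQ : VanishOn U (cokernel (Abelian.factorThruCoimage η)) :=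
    vanishOn_cokernel_factorThruCoimage U F
  have hqcK : (kernel η).IsQuasicoherent := qc_kernel η hF hqcP
  have hqcC : (Abelian.coimage η).IsQuasicoherent := qc_cokernel (kernel.ι η) hqcK hF
  have hqcQ : (cokernel (Abelian.factorThruCoimage η)).IsQuasicoherent :=
    qc_cokernel _ hqcC hqcP
  let S₁ : ShortComplex X.Modules :=
    ShortComplex.mk (kernel.ι η) (Abelian.coimage.π η) (cokernel.condition _)
  have hS₁ : S₁.ShortExact :=
    { exact := ShortComplex.exact_of_g_is_cokernel _ (cokernelIsCokernel (kernel.ι η))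
      mono_f := inferInstanceAs (Mono (kernel.ι η))
      epi_g := inferInstanceAs (Epi (cokernel.π (kernel.ι η))) }
  let S₂ : ShortComplex X.Modules :=
    ShortComplex.mk (Abelian.factorThruCoimage η) (cokernel.π _) (cokernel.condition _)
  have hS₂ : S₂.ShortExact :=
    { exact := ShortComplex.exact_of_g_is_cokernel _
        (cokernelIsCokernel (Abelian.factorThruCoimage η))
      mono_f := inferInstanceAs (Mono (Abelian.factorThruCoimage η))
      epi_g := inferInstanceAs (Epi (cokernel.π (Abelian.factorThruCoimage η))) }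
  have hS₁' := shortExact_toSheaf hS₁
  have hS₂' := shortExact_toSheaf hS₂
  have hKv := subsingleton_HH_of_vanishOn U n hT (kernel η) hqcK hK (q + 1) (by omega)
  have hQv := subsingleton_HH_of_vanishOn U n hT _ hqcQ hQ q (by omega)
  have hC : Subsingleton (Ext (ZU (JX X) (⊤ : X.Opens)) (Coh.toAb (Abelian.coimage η)) (q + 1)) :=
    subsingleton_ext_succ_of_shortExact (C := Sheaf (JX X) AddCommGrpCat.{u}) hS₂'
      (ZU (JX X) (⊤ : X.Opens)) q (subsingleton_ext_of_HH _ _ hP) (subsingleton_ext_of_HH _ _ hQv)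
  apply subsingleton_HH_of_ext
  exact subsingleton_ext_of_shortExact₂ (C := Sheaf (JX X) AddCommGrpCat.{u}) hS₁'
    (ZU (JX X) (⊤ : X.Opens)) (q + 1) (subsingleton_ext_of_HH _ _ hKv) hC

end Groth.Agent.LD.AS
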