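import Groth.Agent.Lib.Lead.AS.Top
import Groth.Agent.Lib.Lead.SC.GenCrit
import Groth.Agent.Lib.Lead.SC.LocFreeVanish
import Groth.Agent.Lib.Lead.QC.AnnIdeal
import Groth.Agent.Lib.Lead.QC.ClosedUnit
import Groth.Agent.Lib.Lead.QC.Closure
import Groth.Agent.Lib.Lead.QC.SubExtRestrict
import Groth.Agent.S0012
import Groth.Agent.S9819

/-! # Cohomology of quasi-coherent modules vanishing on an open set: reduction to closed
subschemes of the complement. -/

universe u
open CategoryTheory Limits AlgebraicGeometry TopologicalSpace Opposite Abelian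

namespace Groth.Agent.LD.AS
open Groth.Agent.LD.QC Groth.Agent.LD.SC

variable {X : Scheme.{u}}

/-- modules vanishing on the open `U`. -/
def VanishOn (U : X.Opens) (M : X.Modules) : Prop := IsZero (M.restrict U.ι)

lemma VanishOn.of_mono {U : X.Opens} {G M : X.Modules} (i : G ⟶ M) [Mono i]
    (h : VanishOn U M) : VanishOn U G := by
  haveI : Mono ((Scheme.Modules.restrictFunctor U.ι).map i) := inferInstance
  exact IsZero.of_mono ((Scheme.Modules.restrictFunctor U.ι).map i) h

lemma VanishOn.sigma {U : X.Opens} {J : Type u} (G : J → X.Modules)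
    (h : ∀ j, VanishOn U (G j)) : VanishOn U (∐ G) := by
  haveI : PreservesColimitsOfSize.{u, u} (Scheme.Modules.restrictFunctor U.ι) :=
    (Scheme.Modules.restrictAdjunction U.ι).leftAdjoint_preservesColimits
  refine IsZero.of_iso ?_ (PreservesCoproduct.iso (Scheme.Modules.restrictFunctor U.ι) G)
  rw [IsZero.iff_id_eq_zero]
  apply Sigma.hom_ext
  intro j
  exact (h j).eq_of_src _ _

lemma subsingleton_sections_of_isZero {M : X.Modules} (h : IsZero M) (W : X.Opens) :
    Subsingleton Γ(M, W) := by
  refine ⟨fun a b => ?_⟩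
  suffices H : ∀ t : Γ(M, W), t = 0 by rw [H a, H b]
  intro t
  have h1 : (𝟙 M : M ⟶ M) = 0 := h.eq_of_src _ _
  have h2 : (𝟙 M : M ⟶ M).app W t = (0 : M ⟶ M).app W t := by rw [h1]
  simpa using h2

lemma VanishOn.subsingleton_sections {U : X.Opens} {M : X.Modules} (h : VanishOn U M)
    (V : X.Opens) (hV : V ≤ U) : Subsingleton Γ(M, V) := by
  have h1 : U.ι ''ᵁ (U.ι ⁻¹ᵁ V) = V := by
    rw [Scheme.Hom.image_preimage_eq_opensRange_inf, Scheme.Opens.opensRange_ι]
    exact inf_eq_right.2 hV
  have h2 : Subsingleton Γ(M.restrict U.ι, U.ι ⁻¹ᵁ V) := subsingleton_sections_of_isZero h _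
  have h3 : Subsingleton Γ(M, U.ι ''ᵁ (U.ι ⁻¹ᵁ V)) := h2
  rwa [h1] at h3

/-- the support of the annihilator ideal of a finite type module vanishing on `U` misses `U`. -/
theorem support_annIdeal_subset {U : X.Opens} (G : X.Modules) [G.IsQuasicoherent]
    (hft : G.IsFiniteType) (h : VanishOn U G) :
    ((annIdeal G hft).support : Set X) ⊆ (U : Set X)ᶜ := by
  intro x hx hxU
  obtain ⟨V, hV, hxV, hVU⟩ := exists_isAffineOpen_mem_and_subset (x := x) (U := U) hxU
  rw [SetLike.mem_coe, Scheme.IdealSheafData.mem_support_iff_of_mem (U := ⟨V, hV⟩) hxV,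
    annIdeal_ideal, Scheme.mem_zeroLocus_iff] at hx
  haveI := h.subsingleton_sections V hVU
  have h1 : (1 : Γ(X, V)) ∈ Module.annihilator Γ(X, V) Γ(G, V) := by
    rw [Module.mem_annihilator]
    intro m
    exact Subsingleton.elim _ _
  apply hx 1 h1
  rw [Scheme.basicOpen_of_isUnit X isUnit_one]
  exact hxV

section Unit
variable (U : X.Opens) (F : X.Modules)

instance isIso_restrict_unit :
    IsIso ((Scheme.Modules.restrictFunctor U.ι).map
      ((Scheme.Modules.restrictAdjunction U.ι).unit.app F)) := by
  have h := (Scheme.Modules.restrictAdjunction U.ι).left_triangle_components F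
  haveI : IsIso ((Scheme.Modules.restrictFunctor U.ι).map
      ((Scheme.Modules.restrictAdjunction U.ι).unit.app F) ≫
      (Scheme.Modules.restrictAdjunction U.ι).counit.app
        ((Scheme.Modules.restrictFunctor U.ι).obj F)) := by
    rw [h]; infer_instance
  exact IsIso.of_isIso_comp_right _ ((Scheme.Modules.restrictAdjunction U.ι).counit.app
        ((Scheme.Modules.restrictFunctor U.ι).obj F))

lemma vanishOn_kernel_unit :
    VanishOn U (kernel ((Scheme.Modules.restrictAdjunction U.ι).unit.app F)) := by
  refine IsZero.of_iso ?_ (PreservesKernel.iso (Scheme.Modules.restrictFunctor U.ι)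
    ((Scheme.Modules.restrictAdjunction U.ι).unit.app F))
  exact isZero_kernel_of_mono _

lemma vanishOn_cokernel_factorThruCoimage :
    VanishOn U (cokernel (Abelian.factorThruCoimage
      ((Scheme.Modules.restrictAdjunction U.ι).unit.app F))) := by
  set η := (Scheme.Modules.restrictAdjunction U.ι).unit.app F
  refine IsZero.of_iso ?_ (PreservesCokernel.iso (Scheme.Modules.restrictFunctor U.ι)
    (Abelian.factorThruCoimage η))
  haveI : Epi ((Scheme.Modules.restrictFunctor U.ι).map (Abelian.factorThruCoimage η)) := by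
    have h1 : (Scheme.Modules.restrictFunctor U.ι).map (Abelian.coimage.π η) ≫
        (Scheme.Modules.restrictFunctor U.ι).map (Abelian.factorThruCoimage η) =
        (Scheme.Modules.restrictFunctor U.ι).map η := by
      rw [← Functor.map_comp, Abelian.coimage.fac]
    haveI : Epi ((Scheme.Modules.restrictFunctor U.ι).map (Abelian.coimage.π η) ≫
        (Scheme.Modules.restrictFunctor U.ι).map (Abelian.factorThruCoimage η)) := by
      rw [h1]; infer_instance
    exact epi_of_epi ((Scheme.Modules.restrictFunctor U.ι).map (Abelian.coimage.π η)) _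
  exact isZero_cokernel_of_epi _

end Unit

end Groth.Agent.LD.AS
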