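import Groth.Agent.Lib.Lead.AS.Vanish

/-! # Cohomology vanishes above the affine stratification number. -/

universe u
open CategoryTheory Limits AlgebraicGeometry TopologicalSpace Opposite Abelian

namespace Groth.Agent.LD.AS
open Groth.Agent.LD.QC Groth.Agent.LD.SC

/-- a closed subscheme missing the top stratum inherits a shorter affine stratification. -/
theorem hasAffineStratification_of_closedImmersion {T X : Scheme.{u}} (i : T ⟶ X)
    [IsClosedImmersion i] (n : ℕ) (s : X → Fin (n + 2))
    (hs : ∀ a : Fin (n + 2), IsClosed {x : X | s x ≤ a})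
    (hstr : ∀ a : Fin (n + 2), ∃ (Z : Scheme.{u}) (ι : Z ⟶ X),
      IsImmersion ι ∧ IsAffine Z ∧ IsAffineHom ι ∧ Set.range ι = {x : X | s x = a})
    (hi : ∀ t : T, s (i t) ≠ Fin.last (n + 1)) :
    MoreMor.HasAffineStratification T n := by
  refine ⟨fun t => (s (i t)).castPred (hi t), fun a => ?_, fun a => ?_⟩
  · have h1 : {t : T | (s (i t)).castPred (hi t) ≤ a} = i ⁻¹' {x : X | s x ≤ a.castSucc} := by
      ext t
      simp only [Set.mem_setOf_eq, Set.mem_preimage]
      exact Fin.castPred_le_iff (hi t)
    rw [h1]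
    exact (hs _).preimage i.continuous
  · obtain ⟨Z, ι, hι, hZ, hιa, hr⟩ := hstr a.castSucc
    haveI := hι
    haveI := hZ
    haveI := hιa
    refine ⟨pullback ι i, pullback.snd ι i, inferInstance, ?_,
      MorphismProperty.pullback_snd (P := @IsAffineHom) ι i hιa, ?_⟩
    · exact isAffine_of_isAffineHom (pullback.fst ι i)
    · rw [Scheme.Pullback.range_snd, hr]
      ext t
      simp only [Set.mem_preimage, Set.mem_setOf_eq]
      exact (Fin.castPred_eq_iff_eq_castSucc _ (hi t) a).symm

/-- **cohomology of quasi-coherent modules vanishes above the length of an affine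
stratification.** -/
theorem subsingleton_HH_of_hasAffineStratification : ∀ (n : ℕ) (X : Scheme.{u}),
    MoreMor.HasAffineStratification X n → ∀ (F : X.Modules), F.IsQuasicoherent →
      ∀ p : ℕ, n < p → Subsingleton (Coh.HH X F p)
  | 0, X, hX, F, hF, p, hp => by
    haveI := hF
    obtain ⟨s, -, hstr⟩ := hX
    obtain ⟨Z, ι, hι, hZ, hιa, hr⟩ := hstr 0
    haveI := hι
    haveI := hZ
    haveI := hιa
    have hr' : Set.range ι = ((⊤ : X.Opens) : Set X) := by
      rw [hr]
      ext x
      simp only [Set.mem_setOf_eq, Opens.coe_top, Set.mem_univ, iff_true]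
      exact Fin.eq_zero (s x)
    obtain ⟨hU, -⟩ := isAffineOpen_and_isAffineHom_of_range ι ⊤ hr'
    obtain ⟨q, rfl⟩ : ∃ q, p = q + 1 := ⟨p - 1, by omega⟩
    exact subsingleton_HH_of_ext _ _ (subsingleton_ext_of_isAffineOpen F q ⊤ hU)
  | n + 1, X, hX, F, hF, p, hp => by
    haveI := compactSpace_of_hasAffineStratification (n + 1) hX
    haveI := quasiSeparatedSpace_of_hasAffineStratification (n + 1) hX
    obtain ⟨s, hs, hstr⟩ := hX
    have hcompl : {x : X | s x = Fin.last (n + 1)} =
        {x : X | s x ≤ (Fin.last n).castSucc}ᶜ := by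
      ext x
      simp only [Set.mem_setOf_eq, Set.mem_compl_iff, not_le]
      rw [Fin.castSucc_lt_iff_succ_le, Fin.succ_last, Fin.last_le_iff]
    let U : X.Opens := ⟨{x : X | s x = Fin.last (n + 1)}, by
      rw [hcompl]; exact (hs _).isOpen_compl⟩
    obtain ⟨Z, ι, hι, hZ, hιa, hr⟩ := hstr (Fin.last (n + 1))
    haveI := hι
    haveI := hZ
    haveI := hιa
    obtain ⟨hU, hUa⟩ := isAffineOpen_and_isAffineHom_of_range ι U hr
    refine subsingleton_HH_of_open_affine U hU hUa n ?_ F hF p hp
    intro I hI G hG q hq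
    refine subsingleton_HH_of_hasAffineStratification n I.subscheme
      (hasAffineStratification_of_closedImmersion I.subschemeι n s hs hstr ?_) G hG q hq
    intro t h
    have h1 : I.subschemeι t ∈ (I.support : Set X) := by
      rw [← Scheme.IdealSheafData.range_subschemeι]
      exact ⟨t, rfl⟩
    exact hI h1 h

end Groth.Agent.LD.AS
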